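import Cfsg.Agent.Clifford.MGroup
import Cfsg.Agent.Clifford.GlaubApp
import Cfsg.Agent.SolvStr.Schmidt
import Cfsg.Agent.Fgs1.PGroup

/-!
Characters of direct powers, wreath products of M-groups with groups of prime order, and the
embedding of solvable groups in M-groups.
-/

namespace CF.CType

open Cfsg CF.Char CF.Clifford
open scoped ComplexConjugate commutatorElement

universe u

section Pi

variable {ι : Type*} [Fintype ι] [DecidableEq ι] {M : ι → Type*} [∀ i, Group (M i)]

omit [DecidableEq ι] in
theorem char_pi {φ : ∀ i, M i → ℂ} (h : ∀ i, IsCharacter (M i) (φ i)) :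
    IsCharacter (∀ i, M i) (fun b => ∏ i, φ i (b i)) := by
  classical
  have key : ∀ s : Finset ι, IsCharacter (∀ i, M i) (fun b => ∏ i ∈ s, φ i (b i)) := by
    intro s
    induction s using Finset.induction_on with
    | empty => simpa using char_const_one
    | insert a s ha ih =>
      simp only [Finset.prod_insert ha]
      exact char_mul (char_comp (h a) (Pi.evalMonoidHom M a)) ih
  exact key _

variable [∀ i, Fintype (M i)]

theorem inner_pi (φ ψ : ∀ i, M i → ℂ) :
    classInner (fun b : ∀ i, M i => ∏ i, φ i (b i)) (fun b => ∏ i, ψ i (b i)) =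
      ∏ i, classInner (φ i) (ψ i) := by
  simp only [inner_def, Finset.prod_mul_distrib, Finset.prod_univ_sum, Fintype.piFinset_univ,
    Nat.card_pi, Nat.cast_prod, Finset.prod_inv_distrib, map_prod]

theorem irr_pi {φ : ∀ i, M i → ℂ} (h : ∀ i, IsIrrCharacter (M i) (φ i)) :
    IsIrrCharacter (∀ i, M i) (fun b => ∏ i, φ i (b i)) := by
  rw [irr_iff_inner_self (char_pi fun i => irr_isCharacter (h i)), inner_pi]
  simp [inner_irr_self (h _)]

theorem exists_irr_pi {θ : (∀ i, M i) → ℂ} (hθ : IsIrrCharacter (∀ i, M i) θ) :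
    ∃ φ : ∀ i, M i → ℂ, (∀ i, IsIrrCharacter (M i) (φ i)) ∧ θ = fun b => ∏ i, φ i (b i) := by
  classical
  have h1 : regChar (∀ i, M i) = ∑ φ : ∀ i, IrrCharacter (M i),
      (∏ i, (φ i : M i → ℂ) 1) • fun b : ∀ i, M i => ∏ i, (φ i : M i → ℂ) (b i) := by
    ext b
    simp only [Finset.sum_apply, Pi.smul_apply, smul_eq_mul, ← Finset.prod_mul_distrib]
    rw [← Fintype.piFinset_univ, ← Finset.prod_univ_sum (fun _ => Finset.univ)
      (fun i (x : IrrCharacter (M i)) => (x : M i → ℂ) 1 * (x : M i → ℂ) (b i))]
    simp only [sum_irr_one_mul]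
    by_cases hb : b = 1
    · subst hb
      simp only [Pi.one_apply, regChar_one, Nat.card_pi, Nat.cast_prod]
    · obtain ⟨i, hi⟩ := Function.ne_iff.1 hb
      rw [regChar_of_ne hb]
      exact (Finset.prod_eq_zero (Finset.mem_univ i) (regChar_of_ne (G := M i) hi)).symm
  have h2 := inner_regChar_left θ
  rw [irr_conj_one hθ, h1, inner_sum_left] at h2
  obtain ⟨φ, -, h3⟩ := Finset.exists_ne_zero_of_sum_ne_zero (h2 ▸ irr_one_ne_zero hθ)
  rw [Char.inner_smul_left] at h3
  exact ⟨fun i => φ i, fun i => (φ i).2,
    (irr_eq_of_inner_ne_zero (irr_pi fun i => (φ i).2) hθ (right_ne_zero_of_mul h3)).symm⟩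

theorem irr_pi_inj {φ ψ : ∀ i, M i → ℂ} (h : ∀ i, IsIrrCharacter (M i) (φ i))
    (h' : ∀ i, IsIrrCharacter (M i) (ψ i))
    (e : (fun b : ∀ i, M i => ∏ i, φ i (b i)) = fun b => ∏ i, ψ i (b i)) (i : ι) : φ i = ψ i := by
  have h1 := inner_irr_self (irr_pi h)
  nth_rewrite 2 [e] at h1
  rw [inner_pi] at h1
  exact irr_eq_of_inner_ne_zero (h i) (h' i)
    (Finset.prod_ne_zero_iff.1 (h1 ▸ one_ne_zero) i (Finset.mem_univ i))

theorem ind_pi {U : ι → Type*} [∀ i, Group (U i)] [∀ i, Fintype (U i)] (f : ∀ i, U i →* M i)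
    (θ : ∀ i, U i → ℂ) :
    ind (MonoidHom.piMap f) (fun b => ∏ i, θ i (b i)) = fun b => ∏ i, ind (f i) (θ i) (b i) := by
  classical
  ext b
  simp only [ind, Finset.prod_mul_distrib, Finset.prod_univ_sum, Fintype.piFinset_univ,
    Nat.card_pi, Nat.cast_prod, Finset.prod_inv_distrib]
  congr 1
  refine Finset.sum_congr rfl fun x _ => Finset.sum_congr rfl fun h _ => ?_
  rw [Finset.prod_ite_zero]
  simp [funext_iff]

/-- The product of linear characters. -/
def linPi {U : ι → Type*} [∀ i, Group (U i)] (lam : ∀ i, U i →* ℂˣ) : (∀ i, U i) →* ℂˣ where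
  toFun b := ∏ i, lam i (b i)
  map_one' := by simp
  map_mul' a b := by simp [Finset.prod_mul_distrib]

theorem piMap_inj {U : ι → Type*} [∀ i, Group (U i)] (f : ∀ i, U i →* M i)
    (hf : ∀ i, Function.Injective (f i)) : Function.Injective (MonoidHom.piMap f) :=
  fun _ _ h => funext fun i => hf i (congrFun h i)

theorem isMonomial_pi {φ : ∀ i, M i → ℂ} (h : ∀ i, IsMonomial (φ i)) :
    IsMonomial (fun b : ∀ i, M i => ∏ i, φ i (b i)) := by
  classical
  choose U lam h using h
  have := isMonomial_ind_linear (MonoidHom.piMap fun i => (U i).subtype)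
    (piMap_inj _ fun i => (U i).subtype_injective) (linPi lam)
  simp only [linPi, MonoidHom.coe_mk, OneHom.coe_mk, Units.coe_prod] at this
  rw [ind_pi (fun i => (U i).subtype) (fun i u => (lam i u : ℂ))] at this
  simpa only [ind_subtype, ← h] using this

end Pi

/-- All irreducible characters are monomial. -/
def IsM (M : Type*) [Group M] [Fintype M] : Prop :=
  ∀ χ : M → ℂ, IsIrrCharacter M χ → IsMonomial χ

section Wreath

variable {M U Q : Type*} [Group M] [Group U] [Group Q]

/-- The base group of the wreath product. -/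
def base (M Q : Type*) [Group M] [Group Q] : NormalEmb (Q → M) (M ≀ᵣ Q) where
  ι := { toFun b := ⟨b, 1⟩
         map_one' := rfl
         map_mul' a b := by ext <;> simp }
  c := { toFun w :=
          { toFun b := fun x => w.left x * b (w.right⁻¹ * x) * (w.left x)⁻¹
            invFun b := fun x => (w.left (w.right * x))⁻¹ * b (w.right * x) * w.left (w.right * x)
            left_inv b := by ext; simp [mul_assoc]
            right_inv b := by ext; simp [mul_assoc]
            map_mul' a b := by ext; simp [mul_assoc] }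
         map_one' := by ext; simp
         map_mul' a b := by ext; simp [mul_assoc] }
  inj a b h := congrArg RegularWreathProduct.left h
  ι_c g n := by ext <;> simp

theorem base_ι (b : Q → M) : (base M Q).ι b = ⟨b, 1⟩ := rfl

theorem base_c (w : M ≀ᵣ Q) (b : Q → M) (x : Q) :
    (base M Q).c w b x = w.left x * b (w.right⁻¹ * x) * (w.left x)⁻¹ := rfl

theorem base_range : (base M Q).ι.range = (RegularWreathProduct.rightHom : M ≀ᵣ Q →* Q).ker := by
  ext ⟨b, q⟩
  simp only [MonoidHom.mem_range, base_ι, MonoidHom.mem_ker, RegularWreathProduct.rightHom_eq_right]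
  exact ⟨fun ⟨c, h⟩ => (congrArg RegularWreathProduct.right h).symm, fun h => ⟨b, by rw [h]⟩⟩

theorem base_index : (base M Q).ι.range.index = Nat.card Q := by
  rw [base_range, Subgroup.index_ker, MonoidHom.range_eq_top.2
    (fun q => ⟨RegularWreathProduct.inl q, rfl⟩), Subgroup.card_top]

/-- Functoriality of the wreath product in the first argument. -/
def wmap (Q : Type*) [Group Q] (f : U →* M) : U ≀ᵣ Q →* M ≀ᵣ Q where
  toFun w := ⟨fun x => f (w.left x), w.right⟩
  map_one' := by ext <;> simp
  map_mul' a b := by ext <;> simp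

theorem wmap_inj (f : U →* M) (hf : Function.Injective f) : Function.Injective (wmap Q f) := by
  intro a b h
  ext x
  · exact hf (congrFun (congrArg RegularWreathProduct.left h) x)
  · exact congrArg (fun w : M ≀ᵣ Q => w.right) h

/-- A linear character of the first factor gives one of the wreath product. -/
def wlin (Q : Type*) [Group Q] [Fintype Q] (lam : U →* ℂˣ) : U ≀ᵣ Q →* ℂˣ where
  toFun w := ∏ x, lam (w.left x)
  map_one' := by simp
  map_mul' a b := by
    simp only [RegularWreathProduct.mul_left, Pi.mul_apply, map_mul, Finset.prod_mul_distrib]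
    congr 1
    exact Equiv.prod_comp (Equiv.mulLeft a.right⁻¹) fun x => lam (b.left x)

theorem range_index_mul {A B : Type*} [Group A] [Group B] (f : A →* B)
    (hf : Function.Injective f) : Nat.card A * f.range.index = Nat.card B := by
  rw [Nat.card_congr (MonoidHom.ofInjective hf).toEquiv, Subgroup.card_mul_index]

theorem IsM.wreath [Fintype M] [Finite Q] [Fintype (M ≀ᵣ Q)] (hM : IsM M)
    (hQ : (Nat.card Q).Prime) : IsM (M ≀ᵣ Q) := by
  classical
  have := Fintype.ofFinite Q
  intro χ hχ
  set E := base M Q with hE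
  obtain ⟨θ, hθ, h1⟩ := exists_irr_constituent_comp E.ι hχ
  obtain ⟨φ, hφ, rfl⟩ := exists_irr_pi (M := fun _ : Q => M) hθ
  rcases CF.Fgs1.eq_or_eq_top_of_index_prime ((base_index (M := M) (Q := Q)).symm ▸ hQ)
    (E.range_le_inertia (irr_isClassFunction hθ)) with h | h
  · have h2 := (E.ind_irr_iff hθ).2 h.le
    rw [← inner_ind_right _ _ (irr_isClassFunction hχ)] at h1
    rw [irr_eq_of_inner_ne_zero hχ h2 h1]
    exact (isMonomial_pi fun i => hM _ (hφ i)).ind _ E.inj
  · have h3 : ∀ y, φ y = φ 1 := fun y => by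
      have k := E.mem_inertia'.1 (h ▸ Subgroup.mem_top (RegularWreathProduct.inl y))
      have k2 : (fun b : Q → M => ∏ x, φ (y * x) (b x)) = fun b => ∏ x, φ x (b x) := by
        ext b
        rw [← k b, ← Equiv.prod_comp (Equiv.mulLeft y⁻¹)]
        simp [hE, base_c]
      simpa using irr_pi_inj (M := fun _ : Q => M) (fun x => hφ (y * x)) hφ k2 1
    obtain ⟨U, lam, hl⟩ := hM _ (hφ 1)
    have := Fintype.ofFinite (U ≀ᵣ Q)
    set f := wmap Q U.subtype with hf
    have fi : Function.Injective f := wmap_inj _ U.subtype_injective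
    set g := MonoidHom.piMap fun _ : Q => U.subtype with hg
    have gi : Function.Injective g := piMap_inj _ fun _ => U.subtype_injective
    have e1 : (fun b : Q → M => ∏ x, φ x (b x)) =
        ind g (fun b => ((linPi fun _ : Q => lam) b : ℂ)) := by
      simp only [linPi, MonoidHom.coe_mk, OneHom.coe_mk, Units.coe_prod]
      rw [hg, ind_pi (fun _ : Q => U.subtype) (fun _ u => (lam u : ℂ))]
      simp only [ind_subtype, ← hl, h3]
    set ψ := ind f (fun w => (wlin Q lam w : ℂ)) with hψ
    have cψ : IsCharacter _ ψ := ind_isCharacter f (char_linear _)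
    have i1 : f.range.index = g.range.index := by
      have a := range_index_mul f fi
      have b := range_index_mul g gi
      rw [RegularWreathProduct.card, RegularWreathProduct.card] at a
      rw [Nat.card_fun, Nat.card_fun] at b
      rw [← b, mul_right_comm, mul_left_inj' hQ.ne_zero] at a
      exact Nat.eq_of_mul_eq_mul_left (pow_pos Nat.card_pos _) a
    have d1 : ψ 1 = g.range.index := by
      rw [hψ, ind_one f fi, i1]; simp
    have e2 : (fun n => ψ (E.ι n)) = fun b : Q → M => ∏ x, φ x (b x) := by
      refine Clifford.eq_of_inner_ne_zero_of_one_eq (char_comp cψ E.ι) hθ ?_ ?_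
      · rw [e1, inner_ind_right _ _ (char_isClassFunction (char_comp cψ E.ι))]
        have k : classInner (fun w => ψ (f w)) (fun w => (wlin Q lam w : ℂ)) ≠ 0 := by
          rw [← inner_ind_right _ _ (char_isClassFunction cψ), ← hψ]
          intro h0
          have := congrFun (inner_self_eq_zero.1 h0) 1
          rw [d1, Pi.zero_apply, Nat.cast_eq_zero] at this
          exact Subgroup.index_ne_zero_of_finite this
        have k2 := inner_comp_ne_zero_of_constituent (base U Q).ι (char_comp cψ f)
          (irr_linear (wlin Q lam)) (char_linear (linPi fun _ : Q => lam)) k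
          (by
            have := inner_irr_self (irr_linear (linPi fun _ : Q => lam))
            exact this ▸ one_ne_zero)
        exact k2
      · rw [congrFun e1 1, ind_one g gi]; simp [d1]
    have iψ : IsIrrCharacter _ ψ := irr_of_comp_irr E.ι cψ (e2 ▸ hθ)
    have : Fact (Nat.card Q).Prime := ⟨hQ⟩
    have hc : commutator (M ≀ᵣ Q) ≤ E.ι.range := by
      rw [hE, base_range]
      have := isCyclic_of_prime_card (α := Q) rfl
      refine Subgroup.commutator_le.2 fun a _ b _ => ?_
      rw [MonoidHom.mem_ker, map_commutatorElement, commutatorElement_eq_one_iff_mul_comm]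
      exact IsCyclic.commGroup.mul_comm _ _
    obtain ⟨β, -, hβ⟩ := E.exists_linear_mul hc hθ iψ hχ
      (by rw [e2, inner_irr_self hθ]; exact one_ne_zero) h1
    have := isMonomial_ind_linear f fi (β.comp f * wlin Q lam)
    simp only [MonoidHom.mul_apply, MonoidHom.comp_apply, Units.val_mul] at this
    have e3 := ind_comp_mul f (fun w => (wlin Q lam w : ℂ)) (char_isClassFunction (char_linear β))
    rw [hβ]
    exact (e3 ▸ this : IsMonomial ((fun g => (β g : ℂ)) * ψ))

/-- The Kaloujnine-Krasner embedding. -/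
noncomputable def kk {G : Type*} [Group G] (N : Subgroup G) [N.Normal] : G →* N ≀ᵣ (G ⧸ N) where
  toFun g := ⟨fun x => ⟨(x.out)⁻¹ * g * (((g : G ⧸ N))⁻¹ * x).out, by
      rw [← QuotientGroup.eq_one_iff]
      simp⟩, g⟩
  map_one' := by ext <;> simp
  map_mul' a b := by ext <;> simp [mul_assoc]

theorem kk_inj {G : Type*} [Group G] (N : Subgroup G) [N.Normal] : Function.Injective (kk N) := by
  rw [injective_iff_map_eq_one]
  intro g h
  have h1 : (g : G ⧸ N) = 1 := congrArg RegularWreathProduct.right h
  have h2 : ((1 : G ⧸ N).out)⁻¹ * g * (((g : G ⧸ N))⁻¹ * 1).out = 1 :=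
    congrArg Subtype.val (congrFun (congrArg RegularWreathProduct.left h) 1)
  rw [h1, inv_one, one_mul, mul_assoc, inv_mul_eq_one] at h2
  simpa using h2

end Wreath

/-- Dade: a finite solvable group embeds in an M-group. -/
theorem exists_isM (n : ℕ) : ∀ (G : Type u) [Group G] [Finite G] [Group.IsSolvable G],
    Nat.card G = n → ∃ (M : Type u) (_ : Group M) (_ : Fintype M), IsM M ∧
      ∃ f : G →* M, Function.Injective f := by
  induction n using Nat.strong_induction_on with
  | _ n ih =>
    intro G _ _ _ hn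
    rcases subsingleton_or_nontrivial G with h | h
    · have := Fintype.ofFinite G
      exact ⟨G, inferInstance, inferInstance, fun χ hχ => isMonomial_of_isNilpotent hχ,
        MonoidHom.id G, Function.injective_id⟩
    · obtain ⟨N, hN, -, hp⟩ := CF.SolvStr.exists_normal_index_prime (G := G)
      have hlt : Nat.card N < n := by
        rw [← hn, ← N.card_mul_index]
        exact lt_mul_of_one_lt_right Nat.card_pos hp.one_lt
      obtain ⟨M, _, _, hM, f, hf⟩ := ih _ hlt N rfl
      have := Fintype.ofFinite (M ≀ᵣ (G ⧸ N))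
      exact ⟨M ≀ᵣ (G ⧸ N), inferInstance, inferInstance, hM.wreath hp,
        (wmap _ f).comp (kk N), (wmap_inj f hf).comp (kk_inj N)⟩

end CF.CType
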